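import Groth.Agent.DQPush.QcFlasque
import Groth.Agent.AcycDef.Acyclic
import Groth.Agent.CohQC.ToSheafExact
import Mathlib.Algebra.Homology.HomotopyCategory.MappingCone
import Mathlib

/-!
# Sections over quasi-compact opens of complexes of qc-flasque modules and of direct sums
-/

set_option autoImplicit false
set_option backward.isDefEq.respectTransparency false
set_option backward.isDefEq.respectTransparency.types false
set_option linter.style.haveILetI false
set_option linter.unusedSectionVars false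

universe u

open CategoryTheory Category Limits AlgebraicGeometry Opposite TopologicalSpace

namespace Groth.Agent.DCohCpt

open Groth.Agent.DQPush

variable {X : Scheme.{u}}

lemma qf_of_iso {M N : X.Modules} (e : M ≅ N) (h : QF M) : QF N := fun U V hU hV hle t => by
  let T := SheafOfModules.toSheaf X.ringCatSheaf
  obtain ⟨r, hr⟩ := h U V hU hV hle ((T.map e.inv).hom.app (op V) t)
  refine ⟨(T.map e.hom).hom.app (op U) r, ?_⟩
  refine (NatTrans.naturality_apply (T.map e.hom).hom (homOfLE hle).op r).symm.trans ?_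
  rw [hr]
  change (T.map e.inv ≫ T.map e.hom).hom.app (op V) t = t
  rw [← Functor.map_comp, e.inv_hom_id, CategoryTheory.Functor.map_id]
  rfl

lemma qf_of_isZero {M : X.Modules} (h : IsZero M) : QF M :=
  haveI : Injective M := ⟨fun _ _ _ => ⟨0, h.eq_of_tgt _ _⟩⟩
  qf_of_injective M

variable [QuasiSeparatedSpace X]

/-- underlying abelian sheaves -/
noncomputable abbrev ab (X : Scheme.{u}) : X.Modules ⥤ Sheaf (Opens.grothendieckTopology X) AddCommGrpCat.{u} :=
  SheafOfModules.toSheaf X.ringCatSheaf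

instance : (ab X).Additive := ⟨fun {_ _} _ _ => rfl⟩

instance : PreservesFiniteLimits (ab X) :=
  inferInstanceAs (PreservesFiniteLimits (SheafOfModules.toSheaf X.ringCatSheaf))

instance : PreservesFiniteColimits (ab X) :=
  inferInstanceAs (PreservesFiniteColimits (SheafOfModules.toSheaf X.ringCatSheaf))

/-- the sequence of abelian sheaves of a short exact sequence of modules -/
lemma shortExact_toAb {S : ShortComplex X.Modules} (hS : S.ShortExact) : (S.map (ab X)).ShortExact :=
  hS.map_of_exact _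

lemma surjective_app {S : ShortComplex X.Modules} (hS : S.ShortExact) (h₁ : QF S.X₁) (U : X.Opens)
    (hU : IsCompact (U : Set X)) : Function.Surjective (S.g.app U) :=
  haveI : PrespectralSpace X.toTopCat := inferInstanceAs (PrespectralSpace X)
  haveI : QuasiSeparatedSpace X.toTopCat := inferInstanceAs (QuasiSeparatedSpace X)
  TopQC.surjective_app (X := X.toTopCat) (shortExact_toAb hS) h₁ U hU

lemma qf_quotient {S : ShortComplex X.Modules} (hS : S.ShortExact) (h₁ : QF S.X₁) (h₂ : QF S.X₂) : QF S.X₃ :=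
  haveI : PrespectralSpace X.toTopCat := inferInstanceAs (PrespectralSpace X)
  haveI : QuasiSeparatedSpace X.toTopCat := inferInstanceAs (QuasiSeparatedSpace X)
  TopQC.isQcFlasque_quotient (X := X.toTopCat) (shortExact_toAb hS) h₁ h₂

lemma qf_biprod {M N : X.Modules} (hM : QF M) (hN : QF N) : QF (M ⊞ N) := fun U V hU hV h t => by
  let T := SheafOfModules.toSheaf X.ringCatSheaf
  obtain ⟨a, ha⟩ := hM U V hU hV h ((T.map (biprod.fst : M ⊞ N ⟶ M)).hom.app (op V) t)
  obtain ⟨b, hb⟩ := hN U V hU hV h ((T.map (biprod.snd : M ⊞ N ⟶ N)).hom.app (op V) t)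
  refine ⟨(T.map biprod.inl).hom.app (op U) a + (T.map biprod.inr).hom.app (op U) b, ?_⟩
  refine (map_add _ _ _).trans ?_
  refine (congrArg₂ (· + ·) ((NatTrans.naturality_apply (T.map (biprod.inl : M ⟶ M ⊞ N)).hom (homOfLE h).op a).symm)
    ((NatTrans.naturality_apply (T.map (biprod.inr : N ⟶ M ⊞ N)).hom (homOfLE h).op b).symm)).trans ?_
  rw [ha, hb]
  have e : (T.map ((biprod.fst ≫ biprod.inl) + (biprod.snd ≫ biprod.inr) : M ⊞ N ⟶ M ⊞ N)).hom.app (op V) t = t := by
    rw [biprod.total, CategoryTheory.Functor.map_id]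
    rfl
  rw [Functor.map_add, Functor.map_comp, Functor.map_comp] at e
  exact e

/-- the cycles of a bounded below exact complex of qc-flasque modules are qc-flasque -/
lemma qf_cycles (K : CochainComplex X.Modules ℤ) (a : ℤ) [K.IsStrictlyGE a] (hK : K.Acyclic)
    (hq : ∀ k, QF (K.X k)) (k : ℤ) : QF (K.cycles k) := by
  have h0 : ∀ k, k < a → QF (K.cycles k) := fun k hk => by
    refine qf_of_isZero ((IsZero.iff_id_eq_zero _).2 ?_)
    rw [← cancel_mono (K.iCycles k)]
    exact (K.isZero_of_isStrictlyGE a k hk).eq_of_tgt _ _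
  have : ∀ (n : ℕ), QF (K.cycles (a - 1 + n)) := by
    intro n
    induction n with
    | zero => exact h0 _ (by omega)
    | succ n ih =>
      exact qf_quotient (AcycDef.shortExact_cycles K (a - 1 + n) (a - 1 + (n + 1 : ℕ)) (by simp [add_assoc]) (hK _))
        ih (hq _)
  by_cases hk : k < a
  · exact h0 k hk
  · obtain ⟨n, hn⟩ : ∃ n : ℕ, k = a - 1 + n := ⟨(k - (a - 1)).toNat, by omega⟩
    exact hn ▸ this n

lemma exists_cycle_section (K : CochainComplex X.Modules ℤ) (j k : ℤ) (hjk : j + 1 = k) (U : X.Opens)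
    (x : Γ(K.X j, U)) (hx : (K.d j k).app U x = 0) : ∃ z : Γ(K.cycles j, U), (K.iCycles j).app U z = x := by
  let T := SheafOfModules.toSheaf X.ringCatSheaf
  haveI : PreservesLimitsOfSize.{0, 0} (sheafToPresheaf (Opens.grothendieckTopology X) AddCommGrpCat.{u}) :=
    inferInstance
  let G := T ⋙ sheafToPresheaf _ _ ⋙ (evaluation _ _).obj (op U)
  haveI : PreservesFiniteLimits T := inferInstance
  haveI : PreservesFiniteLimits G := inferInstance
  haveI : G.PreservesZeroMorphisms := ⟨fun _ _ => rfl⟩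
  let S : ShortComplex X.Modules := ShortComplex.mk (K.iCycles j) (K.d j k) (K.iCycles_d j k)
  haveI : Mono S.f := inferInstanceAs (Mono (K.iCycles j))
  have hS : S.Exact := S.exact_of_f_is_kernel (K.cyclesIsKernel j k (by simp [hjk]))
  have h := ((G.preservesFiniteLimits_tfae.out 3 1 rfl rfl).1 ‹PreservesFiniteLimits G›) S ⟨hS, inferInstance⟩
  exact (ShortComplex.ab_exact_iff _).1 h.1 x hx

/-- sections of bounded below exact complexes of qc-flasque modules over quasi-compact opens -/
theorem exists_preimage (K : CochainComplex X.Modules ℤ) (a : ℤ) [K.IsStrictlyGE a] (hK : K.Acyclic)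
    (hq : ∀ k, QF (K.X k)) (U : X.Opens) (hU : IsCompact (U : Set X)) (i j k : ℤ) (hij : i + 1 = j)
    (hjk : j + 1 = k) (x : Γ(K.X j, U)) (hx : (K.d j k).app U x = 0) :
    ∃ y : Γ(K.X i, U), (K.d i j).app U y = x := by
  obtain ⟨z, hz⟩ := exists_cycle_section K j k hjk U x hx
  have hS := AcycDef.shortExact_cycles K i j (by simp [hij]) (hK j)
  obtain ⟨y, hy⟩ := surjective_app hS (qf_cycles K a hK hq i) U hU z
  refine ⟨y, ?_⟩
  rw [← hz, ← hy]
  exact congrArg (fun φ => Scheme.Modules.Hom.app φ U y) (K.liftCycles_i (K.d i j) _ rfl (K.d_comp_d _ _ _)).symm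

open CochainComplex in
/-- cycles of a resolution by qc-flasque modules lift -/
theorem exists_cycle_lift {C J : CochainComplex X.Modules ℤ} (s : C ⟶ J) [QuasiIso s] (a : ℤ)
    [C.IsStrictlyGE a] [J.IsStrictlyGE a] (hC : ∀ k, QF (C.X k)) (hJ : ∀ k, QF (J.X k)) (U : X.Opens)
    (hU : IsCompact (U : Set X)) (i j k : ℤ) (hij : i + 1 = j) (hjk : j + 1 = k) (x : Γ(J.X j, U))
    (hx : (J.d j k).app U x = 0) :
    ∃ (c : Γ(C.X j, U)) (y : Γ(J.X i, U)), (C.d j k).app U c = 0 ∧ x = (s.f j).app U c + (J.d i j).app U y := by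
  let M := mappingCone s
  let e := fun n => (HomologicalComplex.homotopyCofiber.XIsoBiprod s n (n + 1) rfl)
  haveI : M.IsStrictlyGE (a - 1) := (CochainComplex.isStrictlyGE_iff _ _).2 fun n hn =>
    IsZero.of_iso ((biprod_isZero_iff _ _).2 ⟨C.isZero_of_isStrictlyGE a (n + 1) (by omega),
      J.isZero_of_isStrictlyGE a n (by omega)⟩) (e n)
  have hM : M.Acyclic := fun n => by
    rw [HomologicalComplex.exactAt_iff_isZero_homology]
    haveI : IsIso (HomologicalComplex.homologyMap s n) := inferInstance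
    haveI : IsIso (HomologicalComplex.homologyMap s (n + 1)) := inferInstance
    exact ((HomologicalComplex.exactAt_iff_isZero_homology _ _).1
      ((KFlat.mappingCone_acyclic s) n))
  have hq : ∀ n, QF (M.X n) := fun n => qf_of_iso (e n).symm (qf_biprod (hC (n + 1)) (hJ n))
  let x' : Γ(M.X j, U) := ((mappingCone.inr s).f j).app U x
  obtain ⟨z, hz⟩ := exists_preimage M (a - 1) hM hq U hU i j k hij hjk x' (by
    refine Eq.trans ?_ (map_zero (((mappingCone.inr s).f k).app U).hom)
    rw [← hx]
    exact congrArg (fun φ => Scheme.Modules.Hom.app φ U x) (mappingCone.inr_f_d s j k))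
  let F : M.X i ⟶ C.X j := (mappingCone.fst s).1.v i j hij
  let S : M.X i ⟶ J.X i := (mappingCone.snd s).v i i (add_zero i)
  refine ⟨F.app U z, S.app U z, ?_, ?_⟩
  · have h := congrArg (fun φ => Scheme.Modules.Hom.app φ U z) (mappingCone.d_fst_v s i j k hij hjk)
    have h1 : ((mappingCone.fst s).1.v j k hjk).app U x' = 0 := by
      refine (congrArg (fun φ => Scheme.Modules.Hom.app φ U x) (mappingCone.inr_f_fst_v s j k hjk)).trans ?_
      rfl
    have h2 : ((mappingCone.fst s).1.v j k hjk).app U ((M.d i j).app U z) = -(C.d j k).app U (F.app U z) := h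
    rw [hz, h1] at h2
    exact neg_eq_zero.1 h2.symm
  · have h := congrArg (fun φ => Scheme.Modules.Hom.app φ U z) (mappingCone.d_snd_v s i j hij)
    have h1 : ((mappingCone.snd s).v j j (add_zero _)).app U x' = x :=
      congrArg (fun φ => Scheme.Modules.Hom.app φ U x) (mappingCone.inr_f_snd_v s j)
    have h2 : ((mappingCone.snd s).v j j (add_zero _)).app U ((M.d i j).app U z) =
        (s.f j).app U (F.app U z) + (J.d i j).app U (S.app U z) := h
    rw [hz, h1] at h2
    exact h2

open scoped Classical in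
/-- sections of direct sums over quasi-compact opens involve finitely many summands -/
theorem exists_finset {T : Type u} {M : T → X.Modules} {c : Cofan M} (hc : IsColimit c)
    (π : ∀ t, c.pt ⟶ M t) (hπ : ∀ t, c.inj t ≫ π t = 𝟙 _) (hπ' : ∀ t t', t' ≠ t → c.inj t' ≫ π t = 0)
    (U : X.Opens) (hU : IsCompact (U : Set X)) (x : Γ(c.pt, U)) :
    ∃ S : Finset T, x = ∑ t ∈ S, (π t ≫ c.inj t).app U x := by
  let E : (∐ M) ≅ c.pt := (coproductIsCoproduct M).coconePointUniqueUpToIso hc
  have hE : ∀ t, Sigma.ι M t ≫ E.hom = c.inj t := fun t =>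
    (coproductIsCoproduct M).comp_coconePointUniqueUpToIso_hom hc ⟨t⟩
  haveI : PrespectralSpace X.toTopCat := inferInstanceAs (PrespectralSpace X)
  haveI : QuasiSeparatedSpace X.toTopCat := inferInstanceAs (QuasiSeparatedSpace X)
  obtain ⟨F, s, hs⟩ := TopQC.exists_preimage (X := X.toTopCat)
    (isColimitOfPreserves (SheafOfModules.toSheaf.{u} X.ringCatSheaf)
      (CoproductsFromFiniteFiltered.isColimitFiniteSubproductsCocone M)) U hU (E.inv.app U x)
  let w : (∐ fun y : F => M y.1.as) ⟶ c.pt := (CoproductsFromFiniteFiltered.finiteSubcoproductsCocone M).ι.app F ≫ E.hom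
  have hw : w = w ≫ ∑ t ∈ F.image (fun y => y.as), π t ≫ c.inj t := by
    refine Sigma.hom_ext _ _ fun y => ?_
    have h1 : Sigma.ι (fun y : F => M y.1.as) y ≫ w = c.inj y.1.as := by
      change Sigma.ι (fun y : F => M y.1.as) y ≫ _ ≫ E.hom = _
      rw [← hE]
      simp
    refine h1.trans (Eq.trans ?_ (congrArg (· ≫ _) h1.symm |>.trans (assoc _ _ _)))
    rw [Preadditive.comp_sum, Finset.sum_eq_single y.1.as]
    · rw [← assoc, hπ, id_comp]
    · intro t _ ht
      rw [← assoc, hπ' t _ (Ne.symm ht), zero_comp]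
    · exact fun h => absurd (Finset.mem_image_of_mem _ y.2) h
  have hx : w.app U s = x := by
    refine (congrArg (E.hom.app U) hs).trans ?_
    exact congrArg (fun φ => Scheme.Modules.Hom.app φ U x) E.inv_hom_id
  refine ⟨F.image (fun y => y.as), hx.symm.trans ((congrArg (fun φ => Scheme.Modules.Hom.app φ U s) hw).trans ?_)⟩
  change (∑ t ∈ F.image (fun y => y.as), π t ≫ c.inj t : c.pt ⟶ c.pt).app U (w.app U s) = _
  rw [hx]
  let Φ : (c.pt ⟶ c.pt) →+ Γ(c.pt, U) :=
    { toFun := fun φ => φ.app U x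
      map_zero' := rfl
      map_add' := fun _ _ => rfl }
  exact map_sum Φ _ _

end Groth.Agent.DCohCpt
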