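import Groth.Agent.DCohCpt.Unit
import Groth.Agent.PerfGen.Compact
import Groth.Agent.ProjForm.Stupid
import Mathlib

/-!
# Perfect objects and direct sums which are bounded below
-/

set_option autoImplicit false
set_option backward.isDefEq.respectTransparency false
set_option backward.isDefEq.respectTransparency.types false
set_option linter.style.haveILetI false
set_option maxHeartbeats 1000000

universe u

open CategoryTheory Category Limits AlgebraicGeometry Pretriangulated HomologicalComplex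

attribute [local instance] HasDerivedCategory.standard

namespace Groth.Agent.DCohCpt

open Groth.Agent.PerfGen

variable {X : Scheme.{u}} {K K' : DCoh.D X}

lemma CptBdd.of_iso (e : K ≅ K') (h : CptBdd K) : CptBdd K' := fun a _ Y _ hY => (h a Y hY).of_iso_left e

lemma cptBdd_of_isZero (h : IsZero K) : CptBdd K := fun _ _ _ _ _ _ => ⟨∅, fun _ => 0, h.eq_of_src _ _⟩

lemma isGE_of_iso' {A B : DCoh.D X} (e : A ≅ B) (a : ℤ) (h : A.IsGE a) : B.IsGE a :=
  DerivedCategory.TStructure.t.isGE_of_iso e a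

lemma CptBdd.of_retract (i : K ⟶ K') (r : K' ⟶ K) (hir : i ≫ r = 𝟙 K) (h : CptBdd K') : CptBdd K :=
  fun a _ Y _ hY φ => by
    obtain ⟨s, p, hp⟩ := h a Y hY (r ≫ φ)
    refine ⟨s, fun t => i ≫ p t, ?_⟩
    rw [← id_comp φ, ← hir, assoc, hp, Preadditive.comp_sum]
    simp

lemma CptBdd.shift (h : CptBdd K) (n : ℤ) : CptBdd (K⟦n⟧) := fun a T Y _ hY => by
  haveI : ∀ κ : Type u, HasColimitsOfShape (Discrete κ) (DCoh.D X) := DQPush.hasCoproducts_D X
  have h0 := h (a + n) (fun k => (Y k)⟦(-n : ℤ)⟧) fun k =>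
    haveI := hY k
    DerivedCategory.TStructure.t.isGE_shift (Y k) a (-n) (a + n) (by omega)
  exact (h0.map (shiftFunctor (DCoh.D X) n)).of_iso_right fun k =>
    (shiftFunctorCompIsoId (DCoh.D X) (-n) n (neg_add_cancel n)).app (Y k)

lemma cptBdd_ext₂ {T : Triangle (DCoh.D X)} (hT : T ∈ distTriang (DCoh.D X)) (h₁ : CptBdd T.obj₁)
    (h₃ : CptBdd T.obj₃) : CptBdd T.obj₂ := fun a _ Y _ hY =>
  haveI : ∀ κ : Type u, HasColimitsOfShape (Discrete κ) (DCoh.D X) := DQPush.hasCoproducts_D X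
  FinFac.ext₂_left hT (h₁ a Y hY) (h₃ a Y hY)

section Affine

variable {R : Type u} [CommRing R]

/-- the affine case -/
theorem cptBdd_affine {K : DCoh.D (Spec (CommRingCat.of R))} (hK : DCoh.IsPerfect K) : CptBdd K := by
  haveI : PreservesFiniteLimits (tilde.functor (CommRingCat.of R)) := QC.tilde_preservesFiniteLimits
  obtain ⟨-, -, hess⟩ := DQCoh.tildeD_affine (R := CommRingCat.of R)
  let F := DCoh.tildeD (CommRingCat.of R)
  obtain ⟨M, ⟨eM⟩⟩ := (hess K).1 (isQCohD_of_isPerfect hK)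
  obtain ⟨E, a, b, hE, hEp, ⟨e⟩⟩ := (DQCoh.perfect_tilde_iff M).1 (DQCoh.perfect_of_iso eM.symm hK)
  refine CptBdd.of_iso (F.mapIso e ≪≫ eM) ?_
  let sf := fun i => DerivedCategory.singleFunctor (ModuleCat.{u} R) i
  have hR : CptBdd (F.obj ((sf 0).obj (ModuleCat.of R R))) := by
    let e₀ : F.obj ((sf 0).obj (ModuleCat.of R R)) ≅ DerivedCategory.Q.obj (O₀ (Spec (CommRingCat.of R))) :=
      F.mapIso ((DerivedCategory.singleFunctorIsoCompQ _ 0).app (ModuleCat.of R R)) ≪≫ DQCoh.tildeToDIso _ ≪≫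
        DerivedCategory.Q.mapIso ((singleMapHomologicalComplex (tilde.functor (CommRingCat.of R))
          (ComplexShape.up ℤ) 0).app (ModuleCat.of R R))
    exact CptBdd.of_iso e₀.symm fun a T Y _ hY => finFac_O Y a hY
  have hbi : ∀ {M N : ModuleCat.{u} R}, CptBdd (F.obj ((sf 0).obj M)) → CptBdd (F.obj ((sf 0).obj N)) →
      CptBdd (F.obj ((sf 0).obj (M ⊞ N))) := fun {M N} hM hN => by
    haveI := preservesBinaryBiproducts_of_preservesBiproducts (sf 0 ⋙ F)
    exact CptBdd.of_iso ((sf 0 ⋙ F).mapBiprod M N).symm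
      (cptBdd_ext₂ (binaryBiproductTriangle_distinguished _ _) hM hN)
  have hiso : ∀ {M N : ModuleCat.{u} R}, (M ≅ N) → CptBdd (F.obj ((sf 0).obj M)) → CptBdd (F.obj ((sf 0).obj N)) :=
    fun e h => CptBdd.of_iso ((sf 0 ⋙ F).mapIso e) h
  have hfree : ∀ n : ℕ, CptBdd (F.obj ((sf 0).obj (ModuleCat.of R (Fin n → R)))) := fun n => by
    induction n with
    | zero => exact cptBdd_of_isZero (F.map_isZero ((sf 0).map_isZero (ModuleCat.isZero_of_subsingleton _)))
    | succ n ih =>
      exact hiso (ModuleCat.biprodIsoProd _ _ ≪≫ (Fin.consLinearEquiv R (fun _ : Fin (n + 1) => R)).toModuleIso)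
        (hbi hR ih)
  have hproj : ∀ M : ModuleCat.{u} R, Module.Finite R M → Module.Projective R M → CptBdd (F.obj ((sf 0).obj M)) := by
    intro M hf hp
    obtain ⟨n, f, g, -, -, hfg⟩ := Module.Finite.exists_comp_eq_id_of_projective R M
    refine CptBdd.of_retract ((sf 0 ⋙ F).map (ModuleCat.ofHom g)) ((sf 0 ⋙ F).map (ModuleCat.ofHom f : _ ⟶ M)) ?_
      (hfree n)
    rw [← Functor.map_comp, ← ModuleCat.ofHom_comp, hfg]
    exact (sf 0 ⋙ F).map_id M
  refine ProjForm.Stupid.prop_of_bounded E (fun C => CptBdd (F.obj (DerivedCategory.Q.obj C))) ?_ ?_ ?_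
    (a := a) (b := b) (fun i hi => hE i (Or.inl hi)) (fun i hi => hE i (Or.inr hi)) (fun i => ?_)
  · exact fun e h => CptBdd.of_iso (F.mapIso (DerivedCategory.Q.mapIso e)) h
  · exact fun C hC => cptBdd_of_isZero (F.map_isZero (DerivedCategory.Q.map_isZero hC))
  · intro S σ h₁ h₃
    have hS : S.ShortExact := HomologicalComplex.shortExact_of_degreewise_shortExact _ fun n => (σ n).shortExact
    exact cptBdd_ext₂ (F.map_distinguished _ (DerivedCategory.triangleOfSES_distinguished hS)) h₁ h₃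
  · exact CptBdd.of_iso ((F.commShiftIso (-i)).symm.app _ ≪≫
      F.mapIso (((DerivedCategory.singleFunctors (ModuleCat.{u} R)).shiftIso (-i) i 0 (by omega)).app (E.X i) ≪≫
        (DerivedCategory.singleFunctorIsoCompQ _ i).app (E.X i)))
      ((hproj _ (hEp i).1 (hEp i).2).shift (-i))

end Affine

variable {W X : Scheme.{u}}

/-- families of direct images -/
theorem finFac_rpush_bdd (f : W ⟶ X) [QuasiCompact f] [QuasiSeparated f] [DCoh.HasRpush f] [DCoh.HasLpull f]
    {K : DCoh.D X} {T : Type u} (Y : T → DCoh.D W) (a : ℤ) (hY : ∀ t, (Y t).IsGE a) [HasCoproduct Y]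
    [HasCoproduct fun t => (DCoh.Rpush f).obj (Y t)] (h : FinFac ((DCoh.Lpull f).obj K) Y) :
    FinFac K (fun t => (DCoh.Rpush f).obj (Y t)) := by
  haveI : SiteCmp.HasRpushD (ModSite.RMor.ofScheme f) := ‹DCoh.HasRpush f›
  obtain ⟨adj⟩ := DerPush.nonempty_lpull_adj_rpush f
  haveI := DQPush.isIso_comparison_bdd f Y a hY
  intro φ
  obtain ⟨s, p, hp⟩ := h ((adj.homEquiv _ _).symm (φ ≫ sigmaComparison (DCoh.Rpush f) Y))
  refine ⟨s, fun t => adj.homEquiv _ _ (p t), ?_⟩
  rw [← cancel_mono (sigmaComparison (DCoh.Rpush f) Y), ← Equiv.apply_symm_apply (adj.homEquiv _ _)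
    (φ ≫ sigmaComparison (DCoh.Rpush f) Y), hp, Preadditive.sum_comp]
  haveI : (DCoh.Rpush f).Additive := inferInstanceAs (SiteCmp.RpushD (ModSite.RMor.ofScheme f)).Additive
  rw [Adjunction.homEquiv_unit, Functor.map_sum, Preadditive.comp_sum]
  refine Finset.sum_congr rfl fun t _ => ?_
  simp only [Category.assoc, ι_comp_sigmaComparison, Adjunction.homEquiv_unit, Functor.map_comp]

lemma isGE_restrict (j : W ⟶ X) [IsOpenImmersion j] (E : DCoh.D X) (a : ℤ) [E.IsGE a] :
    ((DCoh.restrictD j).obj E).IsGE a :=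
  (DerivedCategory.isGE_iff _ a).2 fun m hm =>
    ((Scheme.Modules.restrictFunctor j).map_isZero ((DerivedCategory.isGE_iff _ a).1 ‹_› m hm)).of_iso
      ((DQCoh.homologyDerIso (Scheme.Modules.restrictFunctor j) m).app E)

open Groth.Agent.KFlat Groth.Agent.ProjForm in
/-- two open pieces -/
theorem cptBdd_of_cover {W₁ W₂ : Scheme.{u}} (j : W₁ ⟶ X) (k : W₂ ⟶ X) [IsOpenImmersion j] [IsOpenImmersion k]
    [QuasiCompact j] [QuasiCompact k] (hcov : ∀ x : X, x ∈ j.opensRange ∨ x ∈ k.opensRange)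
    (h₁ : ∀ {K : DCoh.D W₁}, DCoh.IsPerfect K → CptBdd K)
    (h₂ : ∀ {K : DCoh.D W₂}, DCoh.IsPerfect K → CptBdd K)
    {K : DCoh.D X} (hK : DCoh.IsPerfect K) : CptBdd K := by
  intro a T Y _ hY
  haveI := DerPush.hasRpush_sch j
  haveI := DerPush.hasRpush_sch k
  haveI := KFlat.hasLpull j
  haveI := KFlat.hasLpull k
  haveI : HasColimitsOfShape (Discrete T) (DCoh.D X) := DQPush.hasCoproducts_D X T
  haveI : HasColimitsOfShape (Discrete T) (DCoh.D W₁) := DQPush.hasCoproducts_D W₁ T
  haveI : HasColimitsOfShape (Discrete T) (DCoh.D W₂) := DQPush.hasCoproducts_D W₂ T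
  have hrep := fun t => HDU.exists_kInj_rep (A := X.Modules) (Y t)
  choose I hI hIe using hrep
  let e : ∀ t, DerivedCategory.Q.obj (I t) ≅ Y t := fun t => (hIe t).some
  haveI := hI
  let Rj := (Scheme.Modules.restrictFunctor j).mapHomologicalComplex (ComplexShape.up ℤ)
  let Rk := (Scheme.Modules.restrictFunctor k).mapHomologicalComplex (ComplexShape.up ℤ)
  let φ := fun t => etaC j (I t)
  let C := fun t => CochainComplex.mappingCocone (φ t)
  haveI hIj : ∀ t, CochainComplex.IsKInjective (Rj.obj (I t)) := fun t =>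
    DQPush.isKInjective_restrict_open j _ (hI t)
  haveI : ∀ t, CochainComplex.IsKInjective ((pC j).obj (Rj.obj (I t))) := fun t => isKInjective_pC_open j _
  haveI hCi : ∀ t, CochainComplex.IsKInjective (C t) := fun t =>
    haveI := ProjForm.isKInjective_mappingCone (φ t)
    (inferInstance : CochainComplex.IsKInjective ((CochainComplex.mappingCone (φ t))⟦(-1 : ℤ)⟧))
  haveI hCk : ∀ t, CochainComplex.IsKInjective (Rk.obj (C t)) := fun t =>
    DQPush.isKInjective_restrict_open k _ (hCi t)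
  -- the triangle
  have htri : ∀ t, ∃ c, Triangle.mk (DerivedCategory.Q.map (CochainComplex.mappingCocone.fst (φ t)))
      (DerivedCategory.Q.map (φ t)) c ∈ distTriang (DCoh.D X) := fun t => by
    refine ⟨(DerivedCategory.Q.mapTriangle.obj (CochainComplex.mappingCocone.triangle (φ t))).mor₃, ?_⟩
    change DerivedCategory.Q.mapTriangle.obj (CochainComplex.mappingCocone.triangle (φ t)) ∈ _
    rw [Pretriangulated.rotate_distinguished_triangle]
    exact isomorphic_distinguished _ (DerivedCategory.mappingCone_triangle_distinguished (φ t)) _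
      ((Functor.mapTriangleRotateIso DerivedCategory.Q).app _ ≪≫
        DerivedCategory.Q.mapTriangle.mapIso (CochainComplex.mappingCocone.rotateTriangleIso _))
  choose c hc using htri
  let t₀ := DerivedCategory.TStructure.t (C := X.Modules)
  have hIb : ∀ t, (DerivedCategory.Q.obj (I t)).IsGE a := fun t =>
    haveI := hY t
    t₀.isGE_of_iso (e t).symm a
  let Z₁ := fun t => DerivedCategory.Q.obj (Rj.obj (I t))
  have hZ₁ : ∀ t, (Z₁ t).IsGE a := fun t =>
    haveI := hIb t
    isGE_of_iso' ((Scheme.Modules.restrictFunctor j).mapDerivedCategoryFactors.app (I t)) a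
      (isGE_restrict j (DerivedCategory.Q.obj (I t)) a)
  have hJb : ∀ t, (DerivedCategory.Q.obj ((pC j).obj (Rj.obj (I t)))).IsGE a := fun t =>
    haveI := hZ₁ t
    isGE_of_iso' (ProjForm.rpushIso j (Rj.obj (I t))).symm a (DQPush.isGE_rpush j (Z₁ t) a)
  have hCb : ∀ t, (DerivedCategory.Q.obj (C t)).IsGE a := fun t =>
    haveI := hIb t
    haveI : t₀.IsGE (DerivedCategory.Q.obj ((pC j).obj (Rj.obj (I t)))) a := hJb t
    haveI : t₀.IsGE ((DerivedCategory.Q.obj ((pC j).obj (Rj.obj (I t))))⟦(-1 : ℤ)⟧) (a + 1) :=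
      t₀.isGE_shift _ a (-1) (a + 1) (by omega)
    t₀.isGE₂ _ (inv_rot_of_distTriang _ (hc t)) a
      (t₀.isGE_of_ge ((DerivedCategory.Q.obj ((pC j).obj (Rj.obj (I t))))⟦(-1 : ℤ)⟧) a (a + 1) (by omega)) (hIb t)
  let Z₂ := fun t => DerivedCategory.Q.obj (Rk.obj (C t))
  have hZ₂ : ∀ t, (Z₂ t).IsGE a := fun t =>
    haveI := hCb t
    isGE_of_iso' ((Scheme.Modules.restrictFunctor k).mapDerivedCategoryFactors.app (C t)) a
      (isGE_restrict k (DerivedCategory.Q.obj (C t)) a)
  -- the cocone vanishes on the image of `j`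
  have hA : ∀ t, AcycOn j.opensRange (C t) := fun t y hy => by
    have h1 : AcycOn j.opensRange (CochainComplex.mappingCone (φ t)) := (acycOn_cone_iff _).2
      ((qisOn_range_iff j _).2 (haveI := isIso_restrict_etaC j (I t); inferInstance))
    intro i
    exact ((exactAt_iff_isZero_homology _ _).2 (((exactAt_iff_isZero_homology _ _).1 (h1 y hy (i + -1))).of_iso
      (((HomologicalComplex.homologyFunctor _ _ i).mapIso
        (((DerSch.stalkFunctor X y).mapHomologicalComplex (ComplexShape.up ℤ)).commShiftIso (-1 : ℤ) |>.app _)) ≪≫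
          (((HomologicalComplex.homologyFunctor _ (ComplexShape.up ℤ) 0).shiftIso (-1 : ℤ) i (i + -1) (by omega)).app _))))
  haveI : QuasiSeparated j := inferInstance
  haveI : QuasiSeparated k := inferInstance
  have hf₂ : FinFac K (fun t => DerivedCategory.Q.obj ((pC j).obj (Rj.obj (I t)))) :=
    FinFac.of_iso_right (fun t => (ProjForm.rpushIso j (Rj.obj (I t))).symm)
      (finFac_rpush_bdd j Z₁ a hZ₁ (h₁ (DerPerf.isPerfect_Lpull j K hK) a Z₁ hZ₁))
  have hf₁ : FinFac K (fun t => DerivedCategory.Q.obj (C t)) :=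
    FinFac.of_iso_right (fun t => (ProjForm.rpushIso k (Rk.obj (C t))).symm ≪≫
        (haveI := quasiIso_etaC k hcov (C t) (hA t); (asIso (DerivedCategory.Q.map (etaC k (C t)))).symm))
      (finFac_rpush_bdd k Z₂ a hZ₂ (h₂ (DerPerf.isPerfect_Lpull k K hK) a Z₂ hZ₂))
  exact FinFac.of_iso_right e (FinFac.ext₂ _ _ c hc hf₁ hf₂)

/-- **perfect objects and bounded below direct sums** -/
theorem cptBdd_perfect (X : Scheme.{u}) [CompactSpace X] [QuasiSeparatedSpace X] {K : DCoh.D X}
    (hK : DCoh.IsPerfect K) : CptBdd K := by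
  suffices H : ∀ S : X.Opens, IsCompact (S : Set X) → ∀ (K : DCoh.D (S : Scheme.{u})), DCoh.IsPerfect K →
      CptBdd K by
    haveI : CompactSpace ((⊤ : X.Opens) : Scheme.{u}) := isCompact_iff_compactSpace.1 isCompact_univ
    haveI : QuasiSeparatedSpace ((⊤ : X.Opens) : Scheme.{u}) := quasiSeparatedSpace_of_quasiSeparated (⊤ : X.Opens).ι
    let j : ((⊤ : X.Opens) : Scheme.{u}) ⟶ X := (⊤ : X.Opens).ι
    haveI : QuasiCompact j := quasiCompact_of_compactSpace j
    exact cptBdd_of_cover j j (fun x => Or.inl (by simp [j])) (fun hK => H ⊤ isCompact_univ _ hK)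
      (fun hK => H ⊤ isCompact_univ _ hK) hK
  intro S hS
  refine compact_open_induction_on S hS ?_ ?_
  · intro K hK
    refine cptBdd_of_isZero ?_
    rw [IsZero.iff_id_eq_zero]
    haveI : IsIso (0 : K ⟶ K) := by
      rw [DerivedCategory.isIso_iff]
      intro i
      have hh : IsZero ((DerivedCategory.homologyFunctor _ i).obj K) :=
        KFlat.isZero_of_stalks _ fun x => x.2.elim
      exact hh.isIso hh _
    have h0 := IsIso.hom_inv_id (0 : K ⟶ K)
    rw [zero_comp] at h0
    exact h0.symm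
  · intro S hS U ih K hK
    let Z : X.Opens := S ⊔ U.1
    haveI : QuasiSeparatedSpace (Z : Scheme.{u}) := quasiSeparatedSpace_of_quasiSeparated Z.ι
    haveI : CompactSpace (S : Scheme.{u}) := isCompact_iff_compactSpace.1 hS
    haveI : IsAffine (U.1 : Scheme.{u}) := U.2
    let j : (S : Scheme.{u}) ⟶ (Z : Scheme.{u}) := X.homOfLE le_sup_left
    let k₀ : (U.1 : Scheme.{u}) ⟶ (Z : Scheme.{u}) := X.homOfLE le_sup_right
    let k : Spec Γ((U.1 : Scheme.{u}), ⊤) ⟶ (Z : Scheme.{u}) := (U.1 : Scheme.{u}).isoSpec.inv ≫ k₀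
    haveI : QuasiCompact j := quasiCompact_of_compactSpace j
    haveI : QuasiCompact k := quasiCompact_of_compactSpace k
    refine cptBdd_of_cover j k (fun z => ?_) (fun hK => ih _ hK) (fun hK => cptBdd_affine hK) hK
    rcases z.2 with hz | hz
    · exact Or.inl ⟨⟨z.1, hz⟩, Subtype.ext (by simp [j])⟩
    · refine Or.inr ⟨(U.1 : Scheme.{u}).isoSpec.hom.base ⟨z.1, hz⟩, Subtype.ext ?_⟩
      simp [k, k₀]

end Groth.Agent.DCohCpt
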