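import Groth.Agent.DCohCpt.Sections
import Groth.Agent.PerfGen.Envelope
import Groth.Agent.DQPush.Coprod
import Groth.Agent.CohQC.QuasiAffine
import Groth.Agent.DCohMV.Leray
import Groth.Agent.KInj.Ops

/-!
# `O_X` and the direct sums which are bounded below, on a quasi-compact quasi-separated scheme
-/

set_option autoImplicit false
set_option backward.isDefEq.respectTransparency false
set_option backward.isDefEq.respectTransparency.types false
set_option linter.style.haveILetI false

universe u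

open CategoryTheory Category Limits AlgebraicGeometry Pretriangulated Opposite TopologicalSpace HomologicalComplex

attribute [local instance] HasDerivedCategory.standard

namespace Groth.Agent.DCohCpt

variable {X : Scheme.{u}}

/-- maps out of `K` into uniformly bounded below direct sums factor through finitely many summands -/
def CptBdd (K : DCoh.D X) : Prop :=
  ∀ (a : ℤ) {T : Type u} (Y : T → DCoh.D X) [HasCoproduct Y], (∀ t, (Y t).IsGE a) → PerfGen.FinFac K Y

/-- `O` in degree zero, as a complex -/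
noncomputable abbrev O₀ (X : Scheme.{u}) : CochainComplex X.Modules ℤ :=
  (single X.Modules (ComplexShape.up ℤ) 0).obj (Coh.structureModule X)

lemma secHom_one : CohQC.secHom (F := Coh.structureModule X) (show Γ(Coh.structureModule X, ⊤) from (1 : Γ(X, ⊤))) = 𝟙 _ := by
  refine Scheme.Modules.hom_ext _ _ fun W => ?_
  ext t
  rw [CohQC.secHom_app]
  change (show Γ(X, W) from t) * X.presheaf.map (homOfLE (le_top : W ≤ ⊤)).op (1 : Γ(X, ⊤)) = _
  rw [map_one, mul_one]
  rfl

lemma eq_secHom {F : X.Modules} (φ : Coh.structureModule X ⟶ F) :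
    φ = CohQC.secHom (φ.app ⊤ (show Γ(Coh.structureModule X, ⊤) from (1 : Γ(X, ⊤)))) := by
  rw [← DCohMV.secHom_comp, secHom_one, id_comp]

/-- the section of a map out of `O` in degree zero -/
noncomputable def ev {C : CochainComplex X.Modules ℤ} (f : O₀ X ⟶ C) : Γ(C.X 0, ⊤) :=
  ((singleObjXSelf (ComplexShape.up ℤ) 0 (Coh.structureModule X)).inv ≫ f.f 0).app ⊤
    (show Γ(Coh.structureModule X, ⊤) from (1 : Γ(X, ⊤)))

lemma ev_comp {C D : CochainComplex X.Modules ℤ} (f : O₀ X ⟶ C) (s : C ⟶ D) : ev (f ≫ s) = (s.f 0).app ⊤ (ev f) :=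
  rfl

lemma ev_add {C : CochainComplex X.Modules ℤ} (f g : O₀ X ⟶ C) : ev (f + g) = ev f + ev g := by
  simp [ev, Preadditive.comp_add]

lemma ev_sub {C : CochainComplex X.Modules ℤ} (f g : O₀ X ⟶ C) : ev (f - g) = ev f - ev g := by
  rw [eq_sub_iff_add_eq, ← ev_add, sub_add_cancel]

lemma d_ev {C : CochainComplex X.Modules ℤ} (f : O₀ X ⟶ C) : (C.d 0 1).app ⊤ (ev f) = 0 := by
  have h : ((singleObjXSelf (ComplexShape.up ℤ) 0 (Coh.structureModule X)).inv ≫ f.f 0) ≫ C.d 0 1 = 0 := by
    rw [assoc, f.comm 0 1, single_obj_d, zero_comp, comp_zero]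
  exact congrArg (fun φ => Scheme.Modules.Hom.app φ ⊤ (show Γ(Coh.structureModule X, ⊤) from (1 : Γ(X, ⊤)))) h

lemma ev_injective {C : CochainComplex X.Modules ℤ} {f g : O₀ X ⟶ C} (h : ev f = ev g) : f = g := by
  refine from_single_hom_ext ((cancel_epi (singleObjXSelf (ComplexShape.up ℤ) 0 (Coh.structureModule X)).inv).1 ?_)
  exact (eq_secHom _).trans ((congrArg CohQC.secHom h).trans (eq_secHom _).symm)

/-- the map of a cycle -/
noncomputable def ofCycle (C : CochainComplex X.Modules ℤ) (c : Γ(C.X 0, ⊤)) (hc : (C.d 0 1).app ⊤ c = 0) :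
    O₀ X ⟶ C :=
  mkHomFromSingle (CohQC.secHom c) fun j hj => by
    obtain rfl : (0 : ℤ) + 1 = j := hj
    change CohQC.secHom c ≫ C.d 0 1 = 0
    rw [DCohMV.secHom_comp, hc, DCohMV.secHom_zero]

lemma ev_ofCycle (C : CochainComplex X.Modules ℤ) (c : Γ(C.X 0, ⊤)) (hc : (C.d 0 1).app ⊤ c = 0) :
    ev (ofCycle C c hc) = c := by
  simp only [ev, ofCycle, mkHomFromSingle_f, Iso.inv_hom_id_assoc]
  exact (CohQC.secHom_app_one c ⊤).trans (QC.res_self _ _ c)

lemma Q_map_eq {J : CochainComplex X.Modules ℤ} (f g : O₀ X ⟶ J) (y : Γ(J.X (-1), ⊤))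
    (h : ev f = ev g + (J.d (-1) 0).app ⊤ y) : DerivedCategory.Q.map f = DerivedCategory.Q.map g := by
  classical
  let hh : ∀ i j, (ComplexShape.up ℤ).Rel j i → ((O₀ X).X i ⟶ J.X j) := fun i j hij =>
    if e : i = 0 then eqToHom (by rw [e]) ≫ (singleObjXSelf (ComplexShape.up ℤ) 0 (Coh.structureModule X)).hom ≫
      CohQC.secHom y ≫ eqToHom (by
        have : j + 1 = i := hij
        rw [show j = -1 by omega])
    else 0
  have key : f - g = Homotopy.nullHomotopicMap' hh := by
    refine ev_injective ?_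
    rw [ev_sub, h, add_sub_cancel_left, ev, Homotopy.nullHomotopicMap'_f (k₂ := -1) (k₁ := 0) (k₀ := 1)
      (by simp) (by simp) hh, single_obj_d, zero_comp, zero_add]
    have : hh 0 (-1) (by simp) =
        (singleObjXSelf (ComplexShape.up ℤ) 0 (Coh.structureModule X)).hom ≫ CohQC.secHom y := by
      simp [hh]
    rw [this, assoc, Iso.inv_hom_id_assoc]
    exact (congrArg ((J.d (-1) 0).app ⊤) ((CohQC.secHom_app_one y ⊤).trans (QC.res_self _ _ y))).symm
  exact KInj.Q_map_eq_of_homotopy ((Homotopy.ofEq key).trans (Homotopy.nullHomotopy' hh))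

lemma exists_lift {C J : CochainComplex X.Modules ℤ} [J.IsKInjective]
    (α : DerivedCategory.Q.obj C ⟶ DerivedCategory.Q.obj J) : ∃ f : C ⟶ J, DerivedCategory.Q.map f = α := by
  obtain ⟨g, hg⟩ := (CochainComplex.IsKInjective.Qh_map_bijective _ J).2
    ((DerivedCategory.quotientCompQhIso _).hom.app C ≫ α ≫ (DerivedCategory.quotientCompQhIso _).inv.app J)
  obtain ⟨f, rfl⟩ := (HomotopyCategory.quotient _ _).map_surjective g
  refine ⟨f, ?_⟩
  have := (DerivedCategory.quotientCompQhIso X.Modules).hom.naturality f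
  simp only [Functor.comp_map] at this
  rw [hg, Category.assoc, Category.assoc, Iso.inv_hom_id_app, Category.comp_id] at this
  exact ((cancel_epi _).1 this).symm

open Groth.Agent.DQPush

variable [CompactSpace X] [QuasiSeparatedSpace X]

/-- maps out of `O` into a bounded below complex of qc-flasque modules come from chain maps -/
theorem exists_lift_qf {C : CochainComplex X.Modules ℤ} (a : ℤ) [C.IsStrictlyGE a] (hC : ∀ k, QF (C.X k))
    (φ : DerivedCategory.Q.obj (O₀ X) ⟶ DerivedCategory.Q.obj C) :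
    ∃ g : O₀ X ⟶ C, DerivedCategory.Q.map g = φ := by
  haveI := DerPush.isGrothendieckAbelian_modules X
  haveI := hasInj X
  obtain ⟨J, s, hs, hJ, hGE⟩ := CochainComplex.Plus.modelCategoryQuillen.exists_quasiIso_injective C a
  haveI := hs
  haveI := hGE
  haveI := hJ
  haveI := CochainComplex.isKInjective_of_injective J a
  obtain ⟨f, hf⟩ := exists_lift (φ ≫ DerivedCategory.Q.map s)
  obtain ⟨c, y, hc, hxy⟩ := exists_cycle_lift s a hC (fun k => qf_of_injective _) (⊤ : X.Opens) isCompact_univ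
    (-1) 0 1 (by omega) (by omega) (ev f) (d_ev f)
  refine ⟨ofCycle C c hc, ?_⟩
  rw [← cancel_mono (DerivedCategory.Q.map s), ← hf, ← Functor.map_comp]
  exact (Q_map_eq f (ofCycle C c hc ≫ s) y (by rw [ev_comp, ev_ofCycle]; exact hxy)).symm

open scoped Classical in
theorem finFac_O {T : Type u} (Y : T → DCoh.D X) [HasCoproduct Y] (a : ℤ) (hY : ∀ t, (Y t).IsGE a) :
    PerfGen.FinFac (DerivedCategory.Q.obj (O₀ X)) Y := by
  haveI := DerPush.isGrothendieckAbelian_modules X
  haveI := hasInj X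
  have hrep : ∀ t, ∃ I : CochainComplex X.Modules ℤ, I.IsStrictlyGE a ∧ (∀ k, Injective (I.X k)) ∧
      Nonempty (DerivedCategory.Q.obj I ≅ Y t) := fun t => by
    haveI := hY t
    let C := (DerivedCategory.Q (C := X.Modules)).objPreimage (Y t)
    let eC : DerivedCategory.Q.obj C ≅ Y t := DerivedCategory.Q.objObjPreimageIso (Y t)
    haveI : C.IsGE a := (DerivedCategory.isGE_Q_obj_iff C a).1 (DerivedCategory.TStructure.t.isGE_of_iso eC.symm a)
    obtain ⟨I, s, hs, hI, hGE⟩ := CochainComplex.Plus.modelCategoryQuillen.exists_quasiIso_injective (C.truncGE a) a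
    haveI := hs
    exact ⟨I, hGE, hI, ⟨(asIso (DerivedCategory.Q.map (C.πTruncGE a ≫ s))).symm ≪≫ eC⟩⟩
  choose I hGE hI he using hrep
  obtain ⟨hcol⟩ := exists_coprod_cofan Y I fun t => (he t).some
  let col := fun k => isColimitCofanMkObjOfIsColimit (HomologicalComplex.eval X.Modules (ComplexShape.up ℤ) k)
    _ _ (coproductIsCoproduct I)
  haveI : (∐ I).IsStrictlyGE a := (CochainComplex.isStrictlyGE_iff _ _).2 fun k hk => by
    rw [IsZero.iff_id_eq_zero]
    exact Cofan.IsColimit.hom_ext (col k) _ _ fun t =>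
      ((haveI := hGE t; (I t).isZero_of_isStrictlyGE a k hk)).eq_of_src _ _
  have hq : ∀ k, QF ((∐ I).X k) := fun k =>
    qf_of_iso ((coproductIsCoproduct _).coconePointUniqueUpToIso (col k))
      (qf_coprod_injective (fun t => (I t).X k) fun t => hI t k)
  intro φ
  let E : (∐ Y) ≅ DerivedCategory.Q.obj (∐ I) := (coproductIsCoproduct Y).coconePointUniqueUpToIso hcol
  have hE : ∀ t, Sigma.ι Y t = ((he t).some.inv ≫ DerivedCategory.Q.map (Sigma.ι I t)) ≫ E.inv := fun t => by
    rw [Iso.eq_comp_inv]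
    exact (coproductIsCoproduct Y).comp_coconePointUniqueUpToIso_hom hcol ⟨t⟩
  obtain ⟨g, hg⟩ := exists_lift_qf a hq (φ ≫ E.hom)
  let π := fun t => PerfGen.proj I t
  obtain ⟨S, hS⟩ := exists_finset (col 0) (fun t => (π t).f 0)
    (fun t => by
      change (Sigma.ι I t).f 0 ≫ (π t).f 0 = _
      rw [← HomologicalComplex.comp_f, show Sigma.ι I t ≫ π t = 𝟙 _ by simp [π, PerfGen.proj], HomologicalComplex.id_f]
      rfl)
    (fun t t' h => by
      change (Sigma.ι I t').f 0 ≫ (π t).f 0 = _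
      rw [← HomologicalComplex.comp_f, show Sigma.ι I t' ≫ π t = 0 by simp [π, PerfGen.proj, h], HomologicalComplex.zero_f])
    ⊤ isCompact_univ (ev g)
  let Φ : (O₀ X ⟶ ∐ I) →+ Γ((∐ I).X 0, ⊤) := AddMonoidHom.mk' ev ev_add
  have key : g = ∑ t ∈ S, (g ≫ π t) ≫ Sigma.ι I t := ev_injective (by
    change ev g = Φ _
    rw [map_sum]
    exact hS)
  refine ⟨S, fun t => DerivedCategory.Q.map (g ≫ π t) ≫ (he t).some.hom, ?_⟩
  rw [← cancel_mono E.hom, ← hg, key, Functor.map_sum, Preadditive.sum_comp]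
  refine Finset.sum_congr rfl fun t _ => ?_
  rw [← key, hE t]
  simp [Functor.map_comp]

end Groth.Agent.DCohCpt
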