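import Groth.Agent.DCohCpt.Main
import Groth.Agent.PerfHom.Basic
import Groth.Agent.CohQC.Affineness

/-!
# Maps out of perfect objects when the cohomological dimension is finite
-/

set_option autoImplicit false
set_option backward.isDefEq.respectTransparency false
set_option backward.isDefEq.respectTransparency.types false
set_option linter.style.haveILetI false
set_option maxHeartbeats 1000000

universe u

open CategoryTheory Category Limits AlgebraicGeometry Pretriangulated HomologicalComplex TopologicalSpace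

attribute [local instance] HasDerivedCategory.standard

namespace Groth.Agent.DCohCpt

open Groth.Agent.DQPush Groth.Agent.KFlat

variable {X : Scheme.{u}} [CompactSpace X] [QuasiSeparatedSpace X]

lemma subsingleton_HH_injective (I : X.Modules) [Injective I] (n : ℕ) : Subsingleton (Coh.HH X I (n + 1)) := by
  haveI : PrespectralSpace X.toTopCat := inferInstanceAs (PrespectralSpace X)
  haveI : QuasiSeparatedSpace X.toTopCat := inferInstanceAs (QuasiSeparatedSpace X)
  haveI : CompactSpace X.toTopCat := inferInstanceAs (CompactSpace X)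
  have h : Subsingleton (CohSite.HU (Coh.toAb I) (n + 1) (⊤ : X.Opens)) :=
    TopQC.subsingleton_HU_of_isQcFlasque (X := X.toTopCat) n _ (qf_of_injective I) ⊤ isCompact_univ
  exact @Equiv.subsingleton _ _ (SiteCoh.huTerminalEquiv (Opens.grothendieckTopology X) (T := (⊤ : X.Opens)) isTerminalTop (Coh.toAb I)
    (n + 1)).toEquiv h

/-- vanishing of `H^0` for complexes of small enough upper bound -/
theorem eq_zero_of_coh {d : ℕ} (hd : ∀ (F : X.Modules) (i : ℕ), d < i → Subsingleton (Coh.HH X F i))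
    (M : DCoh.D X) (hM : ∀ k : ℤ, -(d : ℤ) ≤ k → IsZero (DCoh.HD M k))
    (φ : DerivedCategory.Q.obj (O₀ X) ⟶ M) : φ = 0 := by
  obtain ⟨I, hI, hinj, ⟨e⟩⟩ := DCohMV.exists_rep M
  haveI := hI
  haveI := hinj
  have hex : ∀ k : ℤ, -(d : ℤ) ≤ k → I.ExactAt k := fun k hk =>
    (exactAt_iff_isZero_homology _ _).2 ((hM k hk).of_iso
      ((KFlat.hdIso I k).symm ≪≫ (DerivedCategory.homologyFunctor _ k).mapIso e))
  let S := fun j : ℤ => ShortComplex.mk (I.iCycles j) (I.liftCycles (I.d j (j + 1)) ((ComplexShape.up ℤ).next (j + 1))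
    rfl (I.d_comp_d _ _ _)) (by rw [← cancel_mono (I.iCycles (j + 1))]; simp)
  have hS : ∀ j, -(d : ℤ) ≤ j + 1 → (S j).ShortExact := fun j hj =>
    AcycDef.shortExact_cycles I j (j + 1) (by simp) (hex _ hj)
  have hH : ∀ i : ℕ, i ≤ d → Subsingleton (Coh.HH X (I.cycles (-(d : ℤ) - 1 + i)) (d + 1 - i)) := by
    intro i
    induction i with
    | zero => exact fun _ => hd _ _ (by omega)
    | succ i ih =>
      intro hi
      obtain ⟨m, hm⟩ : ∃ m, d + 1 - (i + 1) = m + 1 := ⟨d - (i + 1), by omega⟩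
      rw [hm, show (-(d : ℤ) - 1 + (i + 1 : ℕ)) = (-(d : ℤ) - 1 + i) + 1 by push_cast; ring]
      have h2 : Subsingleton (Coh.HH X (S (-(d : ℤ) - 1 + i)).X₂ (m + 1)) := subsingleton_HH_injective _ m
      have h1 := ih (by omega)
      rw [show d + 1 - i = m + 1 + 1 by omega] at h1
      let S' := (S (-(d : ℤ) - 1 + i)).map (ab X)
      haveI : Subsingleton (Abelian.Ext ((constantSheaf (Opens.grothendieckTopology X) AddCommGrpCat.{u}).obj
          (AddCommGrpCat.of (ULift.{u} ℤ))) S'.X₂ (m + 1)) := h2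
      haveI : Subsingleton (Abelian.Ext ((constantSheaf (Opens.grothendieckTopology X) AddCommGrpCat.{u}).obj
          (AddCommGrpCat.of (ULift.{u} ℤ))) S'.X₁ (m + 1 + 1)) := h1
      exact SiteCoh.subsingleton_ext_quotient (S := S') (shortExact_toAb (hS (-(d : ℤ) - 1 + i) (by omega))) _ (m + 1)
  obtain ⟨f, hf⟩ := exists_lift (φ ≫ e.inv)
  obtain ⟨z, hz⟩ := exists_cycle_section I 0 1 (by omega) ⊤ (ev f) (d_ev f)
  have h1 := hH d le_rfl
  rw [show (-(d : ℤ) - 1 + (d : ℕ)) = -1 by ring, Nat.add_sub_cancel_left] at h1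
  have hS0 := AcycDef.shortExact_cycles I (-1) 0 (by simp) (hex 0 (by omega))
  obtain ⟨y, hy⟩ := CohQC.sections_surjective_top (shortExact_toAb hS0) h1 z
  have h0 : DerivedCategory.Q.map f = DerivedCategory.Q.map (0 : O₀ X ⟶ I) := Q_map_eq f 0 y (by
    rw [show ev (0 : O₀ X ⟶ I) = 0 from map_zero (AddMonoidHom.mk' (ev (C := I)) ev_add), zero_add, ← hz, ← hy]
    exact congrArg (fun φ => Scheme.Modules.Hom.app φ ⊤ y) (I.liftCycles_i (I.d (-1) 0) _ rfl (I.d_comp_d _ _ _)))
  rw [← cancel_mono e.inv, ← hf, h0, Functor.map_zero, zero_comp]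

/-- maps out of a perfect object -/
theorem exists_bound {d : ℕ} (hd : ∀ (F : X.Modules) (i : ℕ), d < i → Subsingleton (Coh.HH X F i))
    {K : DCoh.D X} (hK : DCoh.IsPerfect K) :
    ∃ b : ℤ, ∀ L : DCoh.D X, L.IsLE b → ∀ φ : K ⟶ L, φ = 0 := by
  let K₁ := (DerivedCategory.Q (C := X.Modules)).objPreimage K
  let e₁ : DCoh.toD X K₁ ≅ K := DerivedCategory.Q.objObjPreimageIso K
  obtain ⟨c, c', -, hloc⟩ := PerfHom.exists_locIn (DQCoh.perfect_of_iso e₁.symm hK)
  refine ⟨c - d - 1, fun L hL φ => ?_⟩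
  let K' := (resF X).obj K₁
  let eK : DCoh.toD X K' ≅ DCoh.toD X K₁ := asIso (DerivedCategory.Q.map ((resψ X).app K₁))
  haveI := KFlat.hasLTensorCx K'
  haveI := RHomCx.hasRSheafHom K'
  have hK' : PerfHom.LocIn c c' K' := fun x => by
    obtain ⟨V, E, h1, h2, h3, ⟨a⟩⟩ := hloc x
    exact ⟨V, E, h1, h2, h3, ⟨asIso (DerivedCategory.Q.map ((DCoh.restrictCx V).map ((resψ X).app K₁))) ≪≫ a⟩⟩
  obtain ⟨u⟩ := PerfHom.nonempty_unit_ltensor (X := X) (isKFlat_resF K₁)
  let u₀ : DerivedCategory.Q.obj (O₀ X) ≅ DCoh.inD X (Coh.structureModule X) :=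
    ((DerivedCategory.singleFunctorIsoCompQ _ 0).app _).symm
  have hz : ∀ k : ℤ, -(d : ℤ) ≤ k → IsZero (DCoh.HD ((DCoh.RSheafHom K').obj L) k) := fun k hk =>
    PerfHom.isZero_HD_RSheafHom K' hK' L k fun j h1 _ =>
      haveI := hL
      DerivedCategory.isZero_of_isLE L (c - d - 1) _ (by omega)
  have h1 := eq_zero_of_coh hd _ hz
    (u₀.hom ≫ (DCoh.RSheafHomAdj K').homEquiv _ _ (u.hom ≫ eK.hom ≫ e₁.hom ≫ φ))
  rw [← comp_zero (f := u₀.hom), cancel_epi] at h1
  have h2 : ((DCoh.RSheafHomAdj K').homEquiv _ _).symm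
      ((DCoh.RSheafHomAdj K').homEquiv _ _ (u.hom ≫ eK.hom ≫ e₁.hom ≫ φ)) = 0 := by
    rw [h1, Adjunction.homEquiv_counit, Functor.map_zero, zero_comp]
  rw [Equiv.symm_apply_apply] at h2
  rw [← cancel_epi e₁.hom, ← cancel_epi eK.hom, ← cancel_epi u.hom, h2, comp_zero, comp_zero, comp_zero]

/-- **arbitrary direct sums** -/
theorem finFac_of_coh {d : ℕ} (hd : ∀ (F : X.Modules) (i : ℕ), d < i → Subsingleton (Coh.HH X F i))
    {K : DCoh.D X} (hK : DCoh.IsPerfect K) {T : Type u} (Y : T → DCoh.D X) [HasCoproduct Y] :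
    PerfGen.FinFac K Y := by
  obtain ⟨b, hb⟩ := exists_bound hd hK
  haveI : HasColimitsOfShape (Discrete T) (DCoh.D X) := DQPush.hasCoproducts_D X T
  have htri := fun t => DerivedCategory.TStructure.t.exists_triangle (Y t) b (b + 1) rfl
  choose A B hA hB f g h hT using htri
  refine PerfGen.FinFac.ext₂ f g h hT (fun φ => ⟨∅, fun _ => 0, ?_⟩)
    (cptBdd_perfect X hK (b + 1) B fun t => ⟨hB t⟩)
  rw [Finset.sum_empty]
  refine hb _ ((DerivedCategory.isLE_iff _ b).2 fun m hm => ?_) φ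
  haveI := DQPush.preservesCoproducts_HD (X := X) (ι := T) m
  refine IsZero.of_iso ?_ (PreservesCoproduct.iso (DerivedCategory.homologyFunctor X.Modules m) A)
  rw [IsZero.iff_id_eq_zero]
  refine Limits.Sigma.hom_ext _ _ fun t => ?_
  haveI : (A t).IsLE b := ⟨hA t⟩
  exact (DerivedCategory.isZero_of_isLE (A t) b m hm).eq_of_src _ _

end Groth.Agent.DCohCpt
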